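import Cfsg.Agent.Lib.KnownSimple.UnitaryThreePSU

/-!
An inverted element of order four in `PSU 3 F q`, `q` even.
-/

set_option autoImplicit false

namespace CfsgLib.TwoIrrational

open CfsgLib.KnownSimple.Unitary

theorem su_inverted {F V : Type*} [Field F] [Fintype F] [AddCommGroup V] [Module F V]
    [FiniteDimensional F V] {D : HermData F V} {p p' e : V} (hT : D.Tri p p' e) (h2 : (2 : F) = 0)
    (hnorm : ∃ c : Fˣ, D.Nm c ≠ 1) :
    ∃ x y : D.SUgrp, y * x * y⁻¹ = x⁻¹ ∧ x * x ∉ Subgroup.center D.SUgrp ∧ (x * x) * (x * x) = 1 := by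
  have hF := hT.frame
  have hneg : ∀ a : F, -a = a := fun a => by linear_combination -a * h2
  have hd : -D.h e e ∈ D.skew := by
    rw [D.mem_skew, map_neg, D.self_fixed, hneg, hneg]
  set d : D.skew := ⟨_, hd⟩ with hd'
  let x := HermData.eL hF 1 (0 : D.skew)
  let y := HermData.eL hF D.tr1 (0 : D.skew)
  have hxx : x * x = HermData.eL hF 0 d := by
    apply Subtype.ext
    show D.eEquiv (HermData.awL_rel hF 1 0) * D.eEquiv (HermData.awL_rel hF 1 0) =
      D.eEquiv (HermData.awL_rel hF 0 d)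
    rw [D.eEquiv_mul]
    refine D.eEquiv_congr _ _ ?_ ?_
    · rw [← add_smul, zero_smul, show (1 : F) + 1 = 0 by linear_combination h2, zero_smul]
    · simp only [one_smul, ZeroMemClass.coe_zero, add_zero, hd', HermData.awL]
      simp only [zero_mul, mul_zero, neg_zero, zero_add, map_one, mul_one, one_mul]
      linear_combination (-(D.tr1 * D.h e e)) * h2
  have hc : D.bsk ((1 : F) • e) (D.tr1 • e) = d := by
    apply Subtype.ext
    rw [HermData.bsk_coe, one_smul, D.smul_right, D.smul_left, hd']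
    linear_combination D.h e e * D.tr1_spec + (D.h e e * (1 - D.tr1)) * h2
  have hxy : x * y = x * x * (y * x) := by
    rw [hxx, ← hc]
    exact HermData.eL_comm hF 1 D.tr1 0 0
  have hne : (d : F) ≠ 0 := neg_ne_zero.2 hF.ee
  refine ⟨x, y, ?_, fun hz => ?_, ?_⟩
  · rw [eq_inv_iff_mul_eq_one]
    calc y * x * y⁻¹ * x = (x * x)⁻¹ * (x * x * (y * x)) * y⁻¹ * x := by group
      _ = (x * x)⁻¹ * (x * y) * y⁻¹ * x := by rw [hxy]
      _ = 1 := by group
  · obtain ⟨c, hc1⟩ := hnorm
    rw [hxx] at hz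
    have h := HermData.dl_eL hF c 0 d
    rw [Subgroup.mem_center_iff.1 hz, mul_zero] at h
    have h' := (HermData.eL_inj hT (mul_right_cancel h)).2
    have h3 : (d : F) = D.Nm c * (d : F) := congrArg Subtype.val h'
    exact hc1 (mul_right_cancel₀ hne (h3.symm.trans (one_mul _).symm))
  · rw [hxx, HermData.eL_zero_mul hF 0 d d, show d + d = 0 from Subtype.ext (by
      show (d : F) + (d : F) = 0
      linear_combination (d : F) * h2), HermData.eL_zero]

/-- An element of order four inverted in `PSU 3 F q`, `q` even. -/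
theorem psu_inverted {F : Type*} [Field F] [Fintype F] {q : ℕ} (hF : Fintype.card F = q ^ 2)
    (heven : Even q) (hq : 4 ≤ q) :
    ∃ x y : Cfsg.PSU 3 F q, y * x * y⁻¹ = x⁻¹ ∧ x⁻¹ ≠ x ∧ x ^ 4 = 1 := by
  classical
  set D := stdData hF 3
  have h3 : Module.finrank F (Fin 3 → F) = 3 := Module.finrank_fin_fun F
  obtain ⟨p, p', hP⟩ := D.exists_pair D.nondeg_top (by rw [finrank_top, h3]; norm_num)
  have hW : Module.finrank F (D.cutPair ⊤ p p') = 1 := by
    have := D.finrank_cutPair hP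
    rw [finrank_top, h3] at this
    omega
  obtain ⟨⟨e, he⟩, he0, hspan⟩ := finrank_eq_one_iff'.1 hW
  have hee : D.h e e ≠ 0 := by
    intro h0
    apply he0
    apply Subtype.ext
    refine D.nondeg_cutPair D.nondeg_top hP e he fun y hy => ?_
    obtain ⟨c, hc⟩ := hspan ⟨y, hy⟩
    have hy' : y = c • e := (congrArg Subtype.val hc).symm
    rw [hy', D.smul_right, h0, mul_zero]
  have he' := D.mem_cutPair.1 he
  have hT : D.Tri p p' e :=
    HermData.Tri.of_frame ⟨hP.uu, hP.vv, hP.uv, he'.2.1, he'.2.2, hee⟩ h3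
  have hc2 : Fintype.card F % 2 = 0 := by
    obtain ⟨k, rfl⟩ := heven
    rw [hF, Nat.pow_mod, show (k + k) % 2 = 0 by omega]
  have h2 : (2 : F) = 0 := by
    haveI : CharP F 2 := ringChar.of_eq (FiniteField.even_card_iff_char_two.2 hc2)
    exact CharP.cast_eq_zero F 2
  have hnorm : ∃ c : Fˣ, D.Nm c ≠ 1 := by
    obtain ⟨g, hg⟩ := IsCyclic.exists_generator (α := Fˣ)
    refine ⟨g, fun h => ?_⟩
    have h1 : g ^ (q + 1) = 1 := Units.ext (by
      rw [Units.val_pow_eq_pow_val, Units.val_one, pow_succ']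
      exact h)
    have h2 : orderOf g ≤ q + 1 := Nat.le_of_dvd (by omega) (orderOf_dvd_of_pow_eq_one h1)
    rw [orderOf_eq_card_of_forall_mem_zpowers hg, Nat.card_units, Nat.card_eq_fintype_card, hF,
      pow_two] at h2
    have : 4 * q ≤ q * q := Nat.mul_le_mul_right q hq
    omega
  obtain ⟨x, y, hxy, hx, hx4⟩ := su_inverted hT h2 hnorm
  let π := (QuotientGroup.mk' (Subgroup.center (Cfsg.SU 3 F q))).comp (suEquiv hF 3).symm.toMonoidHom
  refine ⟨π x, π y, ?_, fun h => hx ?_, ?_⟩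
  · rw [← map_inv, ← map_inv, ← map_mul, ← map_mul, hxy]
  · have h1 : π (x * x) = 1 := by
      rw [map_mul]
      exact inv_eq_iff_mul_eq_one.1 h
    have h2 : (suEquiv hF 3).symm (x * x) ∈ Subgroup.center (Cfsg.SU 3 F q) :=
      (QuotientGroup.eq_one_iff _).1 h1
    refine Subgroup.mem_center_iff.2 fun g => ?_
    apply (suEquiv hF 3).symm.injective
    rw [map_mul _ g, map_mul _ (x * x) g]
    exact Subgroup.mem_center_iff.1 h2 _
  · rw [← map_pow, show x ^ 4 = (x * x) * (x * x) by simp [pow_succ, mul_assoc], hx4, map_one]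

end CfsgLib.TwoIrrational
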