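import Cfsg.Agent.S0222
import Cfsg.Agent.Lib.Goldschmidt.Defs
import Cfsg.Agent.Lib.TwoIrrational.Unitary
import Cfsg.Agent.Lib.ClassicalGroups.SmallIso
import Cfsg.Prelude.Def_Sporadic

/-!
# Simple groups in which no 2-element is conjugate to another generator of its cyclic group (S4030)

The involutions of a Sylow 2-subgroup commute, so they form a strongly closed abelian subgroup.
-/

set_option autoImplicit false

namespace CfsgLib.TwoIrrational

open Subgroup

universe u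

theorem not_simple_altFour : ¬ IsSimpleGroup (alternatingGroup (Fin 4)) := by
  intro h
  let V : Subgroup (alternatingGroup (Fin 4)) :=
    { carrier := {g | g * g = 1}
      one_mem' := one_mul 1
      mul_mem' := fun {a b} => by revert a b; decide +kernel
      inv_mem' := fun {a} => by revert a; decide +kernel }
  have hn : V.Normal := ⟨fun n hn g => by
    show g * n * g⁻¹ * (g * n * g⁻¹) = 1
    rw [show g * n * g⁻¹ * (g * n * g⁻¹) = g * (n * n) * g⁻¹ by group, show n * n = 1 from hn]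
    group⟩
  rcases h.eq_bot_or_eq_top_of_normal V hn with e | e
  · obtain ⟨g, hg, hg1⟩ : ∃ g : alternatingGroup (Fin 4), g * g = 1 ∧ g ≠ 1 := by decide +kernel
    exact hg1 ((Subgroup.eq_bot_iff_forall _).1 e g hg)
  · obtain ⟨g, hg⟩ : ∃ g : alternatingGroup (Fin 4), g * g ≠ 1 := by decide +kernel
    exact hg (show g ∈ V from e ▸ Subgroup.mem_top g)

variable {G : Type u} [Group G] [Finite G]

/-- Every 2-element is centralised by the normaliser of the cyclic group it generates. -/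
def TwoIrr (G : Type u) [Group G] : Prop :=
  ∀ x : G, (∀ r : ℕ, r.Prime → r ∣ orderOf x → r = 2) →
    normalizer ((zpowers x : Subgroup G) : Set G) ≤ centralizer {x}

omit [Finite G] in
theorem inv_eq_self_of_inverted (hirr : TwoIrr G) {k : ℕ} {x y : G} (hx : x ^ 2 ^ k = 1)
    (h : y * x * y⁻¹ = x⁻¹) : x⁻¹ = x := by
  have hy : y ∈ normalizer ((zpowers x : Subgroup G) : Set G) := by
    rw [Subgroup.mem_normalizer_iff_map_conj_eq, MonoidHom.map_zpowers]
    show zpowers (y * x * y⁻¹) = zpowers x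
    rw [h, zpowers_inv]
  have hc := mem_centralizer_singleton_iff.1 (hirr x (fun r hr hd =>
    (Nat.prime_dvd_prime_iff_eq hr Nat.prime_two).1 (hr.dvd_of_dvd_pow
      (hd.trans (orderOf_dvd_of_pow_eq_one hx)))) hy)
  rw [← h, hc, mul_inv_cancel_right]

omit [Finite G] in
theorem comm_of_sq (hirr : TwoIrr G) (S : Sylow 2 G) {a b : G} (ha : a ∈ (S : Subgroup G))
    (hb : b ∈ (S : Subgroup G)) (ha2 : a * a = 1) (hb2 : b * b = 1) : a * b = b * a := by
  obtain ⟨k, hk⟩ := S.isPGroup' ⟨a * b, mul_mem ha hb⟩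
  have hai : a⁻¹ = a := inv_eq_of_mul_eq_one_right ha2
  have hbi : b⁻¹ = b := inv_eq_of_mul_eq_one_right hb2
  have h : (a * b)⁻¹ = a * b := inv_eq_self_of_inverted hirr (y := a) (congrArg Subtype.val hk)
    (by rw [mul_inv_rev, hai, hbi, ← mul_assoc, ha2, one_mul])
  rw [mul_inv_rev, hai, hbi] at h
  exact h.symm

/-- The elements of order at most two of a Sylow 2-subgroup. -/
def omega (hirr : TwoIrr G) (S : Sylow 2 G) : Subgroup G where
  carrier := {x | x ∈ (S : Subgroup G) ∧ x * x = 1}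
  one_mem' := ⟨one_mem _, one_mul 1⟩
  mul_mem' := fun {a b} ha hb => ⟨mul_mem ha.1 hb.1, by
    rw [show a * b * (a * b) = a * (b * a) * b by group, ← comm_of_sq hirr S ha.1 hb.1 ha.2 hb.2]
    rw [show a * (a * b) * b = (a * a) * (b * b) by group, ha.2, hb.2, one_mul]⟩
  inv_mem' := fun {a} ha => ⟨inv_mem ha.1, by rw [inv_eq_of_mul_eq_one_right ha.2]; exact ha.2⟩

/-- The classification, from Goldschmidt's theorem and Walter's theorem for the group. -/
theorem classify [IsSimpleGroup G] (hna : ¬ IsMulCommutative G) (hirr : TwoIrr G)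
    (hsca : CfsgLib.Goldschmidt.HasSCA G → CfsgLib.Goldschmidt.Concl G)
    (hwalter : ∀ S : Sylow 2 G, IsMulCommutative (S : Subgroup G) →
      (∃ a : ℕ, 2 ≤ a ∧ ∃ (F : Type) (_ : Field F) (_ : Fintype F), Fintype.card F = 2 ^ a ∧
          Nonempty (G ≃* Matrix.ProjectiveSpecialLinearGroup (Fin 2) F)) ∨
        (∃ (F : Type) (_ : Field F) (_ : Fintype F), (Fintype.card F % 8 = 3 ∨ Fintype.card F % 8 = 5) ∧
          Nonempty (G ≃* Matrix.ProjectiveSpecialLinearGroup (Fin 2) F)) ∨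
        Cfsg.IsRee G ∨ Cfsg.IsJ1 G) :
    (∃ (F : Type) (_ : Field F) (_ : Fintype F), 4 ≤ Fintype.card F ∧
        (Fintype.card F % 8 = 0 ∨ Fintype.card F % 8 = 3 ∨ Fintype.card F % 8 = 5) ∧
        Nonempty (G ≃* Matrix.ProjectiveSpecialLinearGroup (Fin 2) F)) ∨
      Cfsg.IsSuzuki G ∨ Cfsg.IsRee G ∨ Cfsg.IsJ1 G := by
  have key : ∀ (F : Type) (_ : Field F) (_ : Fintype F) (a : ℕ), 2 ≤ a → Fintype.card F = 2 ^ a →
      Nonempty (G ≃* Matrix.ProjectiveSpecialLinearGroup (Fin 2) F) →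
      ∃ (F : Type) (_ : Field F) (_ : Fintype F), 4 ≤ Fintype.card F ∧
        (Fintype.card F % 8 = 0 ∨ Fintype.card F % 8 = 3 ∨ Fintype.card F % 8 = 5) ∧
        Nonempty (G ≃* Matrix.ProjectiveSpecialLinearGroup (Fin 2) F) := by
    intro F _ _ a ha hF ⟨e⟩
    rcases Nat.eq_or_lt_of_le ha with rfl | ha
    · haveI : Fact (Nat.Prime 5) := ⟨by norm_num⟩
      obtain ⟨e4⟩ := CfsgLib.ClassicalGroups.psl_two_four_alternating (K := F) (by rw [hF]; norm_num)
      obtain ⟨e5⟩ := CfsgLib.ClassicalGroups.psl_two_five_alternating (K := ZMod 5) (ZMod.card 5)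
      exact ⟨ZMod 5, inferInstance, inferInstance, by rw [ZMod.card]; norm_num,
        by rw [ZMod.card]; norm_num, ⟨(e.trans e4).trans e5.symm⟩⟩
    · obtain ⟨b, rfl⟩ : ∃ b, a = 3 + b := ⟨a - 3, by omega⟩
      refine ⟨F, inferInstance, inferInstance, ?_, Or.inl ?_, ⟨e⟩⟩
      · rw [hF, pow_add]
        have := Nat.two_pow_pos b
        omega
      · rw [hF, pow_add]
        omega
  obtain ⟨S⟩ : Nonempty (Sylow 2 G) := inferInstance
  by_cases hS : IsMulCommutative (S : Subgroup G)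
  · rcases hwalter S hS with ⟨a, ha, F, _, _, hF, he⟩ | ⟨F, _, _, hq, ⟨e⟩⟩ | h | h
    · exact Or.inl (key F _ _ a ha hF he)
    · refine Or.inl ⟨F, inferInstance, inferInstance, ?_, Or.inr hq, ⟨e⟩⟩
      by_contra hlt
      have h3 : Fintype.card F = 3 := by omega
      obtain ⟨e4⟩ := CfsgLib.ClassicalGroups.psl_two_three_alternating (K := F) h3
      exact not_simple_altFour
        (MulEquiv.isSimpleGroup (e.trans e4).symm)
    · exact Or.inr (Or.inr (Or.inl h))
    · exact Or.inr (Or.inr (Or.inr h))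
  have hA : omega hirr S ≠ ⊥ := by
    intro h
    haveI : Nontrivial (S : Subgroup G) := not_subsingleton_iff_nontrivial.1 fun _ =>
      hS ⟨⟨fun _ _ => Subsingleton.elim _ _⟩⟩
    obtain ⟨x, hx⟩ := exists_prime_orderOf_dvd_card' 2
      (S.isPGroup'.card_eq_or_dvd.resolve_left fun h1 =>
        not_subsingleton ↥(S : Subgroup G) (Nat.card_eq_one_iff_unique.1 h1).1)
    have hmem : (x : G) ∈ omega hirr S := ⟨x.2, by
      have := pow_orderOf_eq_one x
      rw [hx, pow_two] at this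
      exact congrArg Subtype.val this⟩
    rw [h, Subgroup.mem_bot] at hmem
    rw [← Subgroup.orderOf_coe, hmem, orderOf_one] at hx
    omega
  have hcomm : IsMulCommutative ↥(omega hirr S) := ⟨⟨fun a b =>
    Subtype.ext (comm_of_sq hirr S a.2.1 b.2.1 a.2.2 b.2.2)⟩⟩
  have hsc : Cfsg.IsStronglyClosed (omega hirr S) (S : Subgroup G) :=
    ⟨fun x hx => hx.1, fun x hx g hg => ⟨hg, by
      rw [show g * x * g⁻¹ * (g * x * g⁻¹) = g * (x * x) * g⁻¹ by group, hx.2]; group⟩⟩
  rcases hsca ⟨S, omega hirr S, hA, hcomm, hsc⟩ with ⟨T, hT⟩ | ⟨H, hH⟩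
  · refine absurd ?_ hS
    obtain ⟨g, hg⟩ := MulAction.exists_smul_eq G T S
    rw [← hg, Sylow.coe_subgroup_smul]
    refine ⟨⟨fun a b => ?_⟩⟩
    obtain ⟨a', ha', ha⟩ := a.2
    obtain ⟨b', hb', hb⟩ := b.2
    apply Subtype.ext
    show (a : G) * (b : G) = (b : G) * (a : G)
    rw [← ha, ← hb]
    show g * a' * g⁻¹ * (g * b' * g⁻¹) = g * b' * g⁻¹ * (g * a' * g⁻¹)
    have hc : a' * b' = b' * a' := congrArg Subtype.val (mul_comm' (⟨a', ha'⟩ : (T : Subgroup G)) ⟨b', hb'⟩)
    calc g * a' * g⁻¹ * (g * b' * g⁻¹) = g * (a' * b') * g⁻¹ := by group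
      _ = g * (b' * a') * g⁻¹ := by rw [hc]
      _ = _ := by group
  have hna' : ∃ a b : G, a * b ≠ b * a := by
    by_contra h
    push_neg at h
    exact hna ⟨⟨h⟩⟩
  rcases Cfsg.Agent.S0222.result hna' H hH with ⟨F, _, _, _, h4, he⟩ | h | ⟨F, _, _, q, hF, hq, h4, ⟨e⟩⟩
  · obtain ⟨a, -, ha⟩ := FiniteField.card F 2
    refine Or.inl (key F _ _ a ?_ ha he)
    by_contra h
    interval_cases h1 : (a : ℕ) <;> omega
  · exact Or.inr (Or.inl h)
  · obtain ⟨x, y, hxy, hx, hx4⟩ := psu_inverted hF hq h4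
    have := inv_eq_self_of_inverted hirr (k := 2) (x := e.symm x) (y := e.symm y)
      (by rw [← map_pow]; norm_num [hx4]) (by rw [← map_inv, ← map_inv, ← map_mul, ← map_mul, hxy])
    rw [← map_inv] at this
    exact absurd (e.symm.injective this) hx

end CfsgLib.TwoIrrational
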